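import Groth.Agent.SmoothDescendH2.Algebra
import Groth.Agent.Synt15.LCIPermanence

/-! Regular immersions over a smooth base map descend. -/

set_option autoImplicit false
set_option backward.isDefEq.respectTransparency false
universe u

open CategoryTheory CategoryTheory.Limits AlgebraicGeometry TopologicalSpace Opposite

namespace Groth.Agent.SmoothDescendH2

open CAlgH CAlgH.KindBasic CAlgH.KindDescent

variable {X Y S : Scheme.{u}}

theorem isStandardSmooth_shrink (p : X ⟶ S) {V : S.Opens} (hV : IsAffineOpen V) {U : X.Opens}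
    (hU : IsAffineOpen U) (e : U ≤ p ⁻¹ᵁ V) (h : (p.appLE V U e).hom.IsStandardSmooth)
    (a : Γ(S, V)) (g : Γ(X, U)) (e' : X.basicOpen g ≤ p ⁻¹ᵁ S.basicOpen a) :
    (p.appLE (S.basicOpen a) (X.basicOpen g) e').hom.IsStandardSmooth := by
  have e₁ : X.basicOpen g ≤ p ⁻¹ᵁ V := (X.basicOpen_le g).trans e
  have h₁ : (p.appLE V (X.basicOpen g) e₁).hom.IsStandardSmooth := by
    rw [show p.appLE V (X.basicOpen g) e₁ = p.appLE V U e ≫ X.presheaf.map (homOfLE (X.basicOpen_le g)).op from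
      (Scheme.Hom.appLE_map p e _).symm, CommRingCat.hom_comp]
    refine RingHom.IsStandardSmooth.comp ?_ h
    letI := (X.presheaf.map (homOfLE (X.basicOpen_le g)).op).hom.toAlgebra
    haveI : IsLocalization.Away g Γ(X, X.basicOpen g) := hU.isLocalization_basicOpen g
    exact RingHom.isStandardSmooth_holdsForLocalizationAway Γ(X, X.basicOpen g) g
  let res := (S.presheaf.map (homOfLE (S.basicOpen_le a)).op).hom
  letI := res.toAlgebra
  haveI : IsLocalization.Away a Γ(S, S.basicOpen a) := hV.isLocalization_basicOpen a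
  have hcomp : (p.appLE (S.basicOpen a) (X.basicOpen g) e').hom.comp res =
      (p.appLE V (X.basicOpen g) e₁).hom := by
    rw [← CommRingCat.hom_comp, Scheme.Hom.map_appLE]
  have hu : IsUnit ((p.appLE V (X.basicOpen g) e₁).hom a) := by
    rw [← hcomp]
    exact (IsLocalization.Away.algebraMap_isUnit (S := Γ(S, S.basicOpen a)) a).map (p.appLE (S.basicOpen a) (X.basicOpen g) e').hom
  haveI : IsLocalization ((Submonoid.powers a).map (p.appLE V (X.basicOpen g) e₁).hom) Γ(X, X.basicOpen g) := by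
    rw [Submonoid.map_powers]
    exact IsLocalization.self (Submonoid.powers_le.2 hu)
  have h₂ := RingHom.isStandardSmooth_localizationPreserves (p.appLE V (X.basicOpen g) e₁).hom
    (Submonoid.powers a) Γ(S, S.basicOpen a) Γ(X, X.basicOpen g) h₁
  convert h₂ using 1
  refine IsLocalization.ringHom_ext (Submonoid.powers a) ?_
  rw [IsLocalization.map_comp]
  rw [show (algebraMap Γ(X, X.basicOpen g) Γ(X, X.basicOpen g)) = RingHom.id _ from rfl, RingHom.id_comp]
  exact hcomp

/-- The `H₁` and quasi cases. -/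
theorem isRegularImmersion_descend {κ : RegImm.Kind} (hκ : κ = .h1 ∨ κ = .quasi) (p : X ⟶ S) [Smooth p]
    (i : Y ⟶ X) (j : Y ⟶ S) [IsImmersion i] [IsImmersion j] (h : i ≫ p = j)
    (hi : RegImm.IsRegularImmersion κ i) : RegImm.IsRegularImmersion κ j := by
  have hκ' : κ ≠ .regular := by rcases hκ with rfl | rfl <;> decide
  refine ⟨inferInstance, fun z => ?_⟩
  obtain ⟨⟨V₀, hV₀⟩, hz₀, hcj₀⟩ := KoszulDescentScheme.exists_closed_chart j z
  obtain ⟨⟨U₁, hU₁⟩, hz₁, hci₁, rs, hrs, hker⟩ := hi.2 z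
  obtain ⟨V, hV, U, hU, hzU, e, hstd⟩ := Smooth.exists_isStandardSmooth p (i z)
  have hjz : j z = p (i z) := by rw [← h]; rfl
  have hzV : j z ∈ V := hjz ▸ e hzU
  haveI : IsClosedImmersion (j ∣_ V₀) := hcj₀
  haveI : IsClosedImmersion (i ∣_ U₁) := hci₁
  obtain ⟨a, haV₀, hza⟩ := hV.exists_basicOpen_le (V := V₀) ⟨j z, hz₀⟩ hzV
  obtain ⟨g, hgle, hzg⟩ := hU.exists_basicOpen_le (V := U₁ ⊓ p ⁻¹ᵁ S.basicOpen a)
    ⟨i z, hz₁, show p (i z) ∈ S.basicOpen a from hjz ▸ hza⟩ hzU
  have hV' : IsAffineOpen (S.basicOpen a) := hV.basicOpen a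
  have hU' : IsAffineOpen (X.basicOpen g) := hU.basicOpen g
  have e' : X.basicOpen g ≤ p ⁻¹ᵁ S.basicOpen a := hgle.trans inf_le_right
  have hstd' := isStandardSmooth_shrink p hV hU e hstd a g e'
  -- shrink so that the two preimages in `Y` agree
  have hj : ∀ W : S.Opens, j ⁻¹ᵁ W = i ⁻¹ᵁ (p ⁻¹ᵁ W) := fun W => by rw [← h]; rfl
  obtain ⟨O, hO, hOz⟩ := (j.isEmbedding.isInducing.isOpen_iff).1 (i ⁻¹ᵁ X.basicOpen g).isOpen
  have hzO : j z ∈ O := by
    have : z ∈ j ⁻¹' O := by rw [hOz]; exact hzg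
    exact this
  obtain ⟨a', ha'O, hza'⟩ := hV'.exists_basicOpen_le (V := ⟨O, hO⟩) ⟨j z, hzO⟩ hza
  have hV'' : IsAffineOpen (S.basicOpen a') := hV'.basicOpen a'
  let g' := p.appLE (S.basicOpen a) (X.basicOpen g) e' a'
  have hg' : X.basicOpen g' = X.basicOpen g ⊓ p ⁻¹ᵁ S.basicOpen a' := Scheme.basicOpen_appLE ..
  have hU'' : IsAffineOpen (X.basicOpen g') := hU'.basicOpen g'
  have e'' : X.basicOpen g' ≤ p ⁻¹ᵁ S.basicOpen a' := hg' ▸ inf_le_right
  have hstd'' := isStandardSmooth_shrink p hV' hU' e' hstd' a' g' e''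
  have hW : j ⁻¹ᵁ S.basicOpen a' ≤ i ⁻¹ᵁ X.basicOpen g' := by
    intro y hy
    rw [hg']
    refine ⟨?_, (hj _).le hy⟩
    have : y ∈ j ⁻¹' O := ha'O hy
    rw [hOz] at this
    exact this
  have hW' : i ⁻¹ᵁ X.basicOpen g' ≤ j ⁻¹ᵁ S.basicOpen a' := fun y hy => (hj _).ge (e'' hy)
  -- the chart of `i`
  have hle₁ : X.basicOpen g' ≤ U₁ := ((hg' ▸ inf_le_left : X.basicOpen g' ≤ X.basicOpen g)).trans
    (hgle.trans inf_le_left)
  obtain ⟨hci, hki⟩ := KoszulChart.restrict i hU₁ hU'' hle₁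
  haveI : IsClosedImmersion (i ∣_ X.basicOpen g') := hci
  let k : Fin rs.length → Γ(X, X.basicOpen g') := fun q => (X.presheaf.map (homOfLE hle₁).op).hom (rs.get q)
  have hk : SeqF κ k := ((seq_iff hκ' rs).1 hrs).map (KoszulChart.flat_restrict hU₁ hU'' hle₁)
  have hI : RingHom.ker (i.app (X.basicOpen g')).hom = Ideal.span (Set.range k) := by
    rw [hki, hker, show Ideal.ofList rs = Ideal.span (Set.range rs.get) by rw [Ideal.ofList, Set.range_list_get],
      Ideal.map_span, ← Set.range_comp]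
    rfl
  -- the chart of `j`
  have hleV : S.basicOpen a' ≤ V₀ := (S.basicOpen_le a').trans haV₀
  obtain ⟨hcj, -⟩ := KoszulChart.restrict j hV₀ hV'' hleV
  haveI : IsClosedImmersion (j ∣_ S.basicOpen a') := hcj
  set φ := (p.appLE (S.basicOpen a') (X.basicOpen g') e'').hom with hφ
  let r := (Y.presheaf.map (homOfLE hW).op).hom
  have hr : Function.Bijective r := by
    have : IsIso (Y.presheaf.map (homOfLE hW).op) := by
      have : IsIso (homOfLE hW) := ⟨homOfLE hW', rfl, rfl⟩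
      infer_instance
    exact ConcreteCategory.bijective_of_isIso _
  have happ : (j.app (S.basicOpen a')).hom = r.comp ((i.app (X.basicOpen g')).hom.comp φ) := by
    subst h
    rw [hφ, ← CommRingCat.hom_comp, ← CommRingCat.hom_comp, Category.assoc]
    congr 1
    rw [Scheme.Hom.app_eq_appLE, Scheme.Hom.app_eq_appLE, Scheme.Hom.appLE_map, Scheme.Hom.appLE_comp_appLE]
  have hJ : RingHom.ker (j.app (S.basicOpen a')).hom = (Ideal.span (Set.range k)).comap φ := by
    rw [happ, RingHom.ker_comp_of_injective _ hr.1, ← RingHom.comap_ker, hI]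
  have hsurj : Function.Surjective ((Ideal.Quotient.mk (Ideal.span (Set.range k))).comp φ) := by
    intro x
    obtain ⟨b, rfl⟩ := Ideal.Quotient.mk_surjective x
    obtain ⟨c, hc⟩ := RegImmStalk.app_surjective_of_restrict j hV'' (r (i.app (X.basicOpen g') b))
    refine ⟨c, Ideal.Quotient.eq.2 ?_⟩
    rw [← hI, RingHom.mem_ker, map_sub, sub_eq_zero]
    refine hr.1 ?_
    rw [← hc]
    exact (RingHom.congr_fun happ c).symm
  have hK := isKIdeal_comap hκ hstd'' k hk hsurj
  rw [← hJ] at hK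
  have hmem : j z ∈ S.basicOpen a' := hza'
  set q := hV''.primeIdealOf ⟨j z, hmem⟩ with hq
  have hmemiff : ∀ b : Γ(S, S.basicOpen a'), j z ∈ S.basicOpen b ↔ b ∉ q.asIdeal := fun b =>
    (FlatMorKoszul.notMem_primeIdealOf_iff hV'' hmem b).symm
  have hle : RingHom.ker (j.app (S.basicOpen a')).hom ≤ q.asIdeal := by
    intro b hb
    by_contra hnb
    have h1 : z ∈ j ⁻¹ᵁ S.basicOpen b := (hmemiff b).2 hnb
    rw [Scheme.preimage_basicOpen, show j.app _ b = 0 from hb, Scheme.basicOpen_zero] at h1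
    exact h1
  obtain ⟨b, hb, s, f, hf, hfI⟩ := hK q hle
  let := (S.presheaf.map (homOfLE (S.basicOpen_le b)).op).hom.toAlgebra
  have : IsLocalization.Away b Γ(S, S.basicOpen b) := hV''.isLocalization_basicOpen b
  obtain ⟨ss, hss, hkss⟩ := KindScheme.exists_away_model b (Localization.Away b) Γ(S, S.basicOpen b) _ f hf hfI
  obtain ⟨h1, h2⟩ := KoszulChart.restrict j hV'' (hV''.basicOpen b) (S.basicOpen_le b)
  refine ⟨⟨_, hV''.basicOpen b⟩, (hmemiff b).2 hb, h1, List.ofFn ss, (seq_ofFn_iff hκ' ss).2 hss, ?_⟩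
  rw [h2]
  exact hkss.trans (congrArg Ideal.span (Set.ext fun x => by simp))

theorem isRegularImmersion_descend' (p : X ⟶ S) [Smooth p] (i : Y ⟶ X) (j : Y ⟶ S) [IsImmersion i] [IsImmersion j]
    (h : i ≫ p = j) (k : RegImm.Kind) (hk : k ≠ .regular) (hi : RegImm.IsRegularImmersion k i) :
    RegImm.IsRegularImmersion k j := by
  cases k with
  | regular => exact absurd rfl hk
  | koszul =>
    subst h
    exact Synt15.isRegularImmersion_of_isKoszulPt _ fun x => Synt15.isKoszulPt_comp i p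
      (Synt15.isKoszulPt_of_isRegularImmersion i hi x) (Synt15.isKoszulPt_of_smooth p _)
  | h1 => exact isRegularImmersion_descend (.inl rfl) p i j h hi
  | quasi => exact isRegularImmersion_descend (.inr rfl) p i j h hi

end Groth.Agent.SmoothDescendH2
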