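import Mathlib
import Groth.Agent.CAlgH.KindScheme
import Groth.Agent.RegCancelH2.Append
import Groth.Agent.RegCancelH2.Exchange
import Groth.Agent.RegCancelH2.Chart

/-! Regular ideals descend along standard smooth ring maps (for lifts with the same quotient). -/

set_option autoImplicit false
set_option backward.isDefEq.respectTransparency false
universe u

noncomputable section

namespace Groth.Agent.SmoothDescendH2

open CAlgH CAlgH.KindBasic CAlgH.KindDescent MvPolynomial

/-- `B ⧸ (x - b)` is flat over `A` when `B` is flat over `A[x]`. -/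
theorem flat_quot_point {A B : Type u} [CommRing A] [CommRing B] {m : ℕ}
    (g : MvPolynomial (Fin m) A →+* B) (hg : g.Flat) (b : Fin m → A) :
    ((Ideal.Quotient.mk (Ideal.span (Set.range fun t => g (X t - C (b t))))).comp (g.comp C)).Flat := by
  let K : Ideal (MvPolynomial (Fin m) A) := Ideal.span (Set.range fun t => (X t - C (b t) : MvPolynomial (Fin m) A))
  letI := g.toAlgebra
  haveI : Module.Flat (MvPolynomial (Fin m) A) B := hg
  haveI : Module.Flat ((MvPolynomial (Fin m) A) ⧸ K) (B ⧸ K.map (algebraMap (MvPolynomial (Fin m) A) B)) :=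
    Module.Flat.of_linearEquiv (Algebra.TensorProduct.quotIdealMapEquivQuotTensor B K).toLinearEquiv
  have hK : Ideal.span (Set.range fun t => g (X t - C (b t))) = K.map (algebraMap (MvPolynomial (Fin m) A) B) := by
    rw [Ideal.map_span, ← Set.range_comp]; rfl
  rw [hK]
  have hh : (Ideal.Quotient.mk (K.map (algebraMap (MvPolynomial (Fin m) A) B))).comp (g.comp C) =
      (algebraMap ((MvPolynomial (Fin m) A) ⧸ K) (B ⧸ K.map (algebraMap (MvPolynomial (Fin m) A) B))).comp ((Ideal.Quotient.mk K).comp C) :=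
    RingHom.ext fun _ => rfl
  rw [hh]
  have hev : K ≤ RingHom.ker (MvPolynomial.eval b) := by
    refine Ideal.span_le.2 ?_
    rintro _ ⟨t, rfl⟩
    simp
  have hbij : Function.Bijective ((Ideal.Quotient.mk K).comp C) := by
    have h2 : Function.LeftInverse (Ideal.Quotient.lift K (MvPolynomial.eval b) fun x hx => hev hx)
        ((Ideal.Quotient.mk K).comp C) := fun a => by simp
    refine ⟨h2.injective, fun y => ?_⟩
    obtain ⟨p, rfl⟩ := Ideal.Quotient.mk_surjective y
    refine ⟨MvPolynomial.eval b p, ?_⟩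
    have : ((Ideal.Quotient.mk K).comp C).comp (MvPolynomial.eval b) = Ideal.Quotient.mk K := by
      refine MvPolynomial.ringHom_ext (fun a => by simp) fun t => ?_
      simp only [RingHom.comp_apply, eval_X]
      exact (Ideal.Quotient.eq.2 (show (X t - C (b t) : MvPolynomial (Fin m) A) ∈ K from Ideal.subset_span ⟨t, rfl⟩)).symm
    exact RingHom.congr_fun this p
  exact RingHom.Flat.comp (RingHom.Flat.of_bijective hbij) (RingHom.flat_algebraMap_iff.2 inferInstance)

variable {A B : Type u} [CommRing A] [CommRing B] {m : ℕ}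

/-- A partial derivative extends to an etale algebra over a polynomial ring. -/
theorem exists_derivation (g : MvPolynomial (Fin m) A →+* B) (hg : g.Etale) (s : Fin m) :
    ∃ D : B → B, (∀ x y, D (x * y) = x * D y + y * D x) ∧ (∀ x y, D (x + y) = D x + D y) ∧
      (∀ p, D (g p) = g (pderiv s p)) := by
  letI := g.toAlgebra
  letI : Algebra A B := (g.comp C).toAlgebra
  haveI : IsScalarTower A (MvPolynomial (Fin m) A) B := IsScalarTower.of_algebraMap_eq fun _ => rfl
  haveI : Algebra.Etale (MvPolynomial (Fin m) A) B := hg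
  let D₀ : Derivation A (MvPolynomial (Fin m) A) B :=
    (Algebra.linearMap (MvPolynomial (Fin m) A) B).compDer (pderiv s)
  let l : KaehlerDifferential A B →ₗ[B] B :=
    (KaehlerDifferential.isBaseChange_of_formallyEtale A (MvPolynomial (Fin m) A) B).lift
      D₀.liftKaehlerDifferential
  let D : Derivation A B B := l.compDer (KaehlerDifferential.D A B)
  refine ⟨D, fun x y => by simp [D.leibniz], fun x y => map_add D x y, fun p => ?_⟩
  show l (KaehlerDifferential.D A B (algebraMap (MvPolynomial (Fin m) A) B p)) = _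
  rw [← KaehlerDifferential.map_D A A (MvPolynomial (Fin m) A) B p, IsBaseChange.lift_eq,
    Derivation.liftKaehlerDifferential_comp_D]
  rfl

/-- The translated coordinates are independent modulo `P * I`. -/
theorem indep_coords (g : MvPolynomial (Fin m) A →+* B) (hg : g.Etale) (b : Fin m → A) {I P : Ideal B}
    (hIP : I ≤ P) (hu : ∀ t, g (X t - C (b t)) ∈ I) (c : Fin m → B)
    (hc : ∑ t, c t * g (X t - C (b t)) ∈ P * I) (s : Fin m) : c s ∈ P := by
  classical
  obtain ⟨D, hmul, hadd, hD⟩ := exists_derivation g hg s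
  let D' : B →+ B := AddMonoidHom.mk' D hadd
  have hPI : ∀ x ∈ P * I, D x ∈ P := fun x hx => by
    refine Submodule.mul_induction_on hx (fun p hp i hi => ?_) fun x y hx hy => ?_
    · rw [hmul]; exact add_mem (Ideal.mul_mem_right _ _ hp) (Ideal.mul_mem_right _ _ (hIP hi))
    · rw [hadd]; exact add_mem hx hy
  have h := hPI _ hc
  rw [show D (∑ t, c t * g (X t - C (b t))) = ∑ t, D (c t * g (X t - C (b t))) from map_sum D' _ _] at h
  have hD1 : ∀ t, D (g (X t - C (b t))) = if t = s then 1 else 0 := fun t => by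
    rw [hD, map_sub, pderiv_C, sub_zero, pderiv_X, Pi.single_apply]
    split_ifs with h1 h2 h2 <;> simp_all
  simp only [hmul, hD1, Finset.sum_add_distrib] at h
  rw [Submodule.add_mem_iff_left _ (Ideal.sum_mem _ fun t _ => Ideal.mul_mem_right _ _ (hIP (hu t)))] at h
  · rw [Finset.sum_eq_single s] at h
    · simpa using h
    · intro t _ hts; simp [hts]
    · exact fun h => absurd (Finset.mem_univ s) h

/-- The idempotent cutting out the section. -/
theorem exists_cut (g : MvPolynomial (Fin m) A →+* B) (hg : g.Etale) (b : Fin m → A) {I : Ideal B} (hI : I.FG)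
    (hu : ∀ t, g (X t - C (b t)) ∈ I) (hsurj : Function.Surjective ((Ideal.Quotient.mk I).comp (g.comp C))) :
    ∃ r : B, r - 1 ∈ I ∧ ∀ x ∈ I, r * x ∈
      (I.comap (g.comp C)).map (g.comp C) ⊔ Ideal.span (Set.range fun t => g (X t - C (b t))) := by
  letI := g.toAlgebra
  haveI : Algebra.Etale (MvPolynomial (Fin m) A) B := hg
  set φ := g.comp C
  set N₀ : Ideal B := (I.comap φ).map φ ⊔ Ideal.span (Set.range fun t => g (X t - C (b t))) with hN₀
  set N : Ideal B := N₀ ⊔ I * I with hN
  have hle₀ : N₀ ≤ I := sup_le Ideal.map_comap_le (Ideal.span_le.2 (by rintro _ ⟨t, rfl⟩; exact hu t))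
  have hle : N ≤ I := sup_le hle₀ Ideal.mul_le_left
  let ψ := (Ideal.Quotient.mk I).comp φ
  have hker : RingHom.ker ψ ≤ RingHom.ker ((Ideal.Quotient.mk N).comp φ) := fun a ha => by
    rw [RingHom.mem_ker, RingHom.comp_apply, Ideal.Quotient.eq_zero_iff_mem]
    exact le_sup_left (a := N₀) (le_sup_left (a := (I.comap φ).map φ)
      (Ideal.mem_map_of_mem φ (show φ a ∈ I from Ideal.Quotient.eq_zero_iff_mem.1 ha : a ∈ I.comap φ)))
  let σ : B ⧸ I →+* B ⧸ N := ψ.liftOfSurjective hsurj ⟨(Ideal.Quotient.mk N).comp φ, hker⟩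
  have hσ : ∀ a, σ (Ideal.Quotient.mk I (φ a)) = Ideal.Quotient.mk N (φ a) := fun a =>
    RingHom.liftOfSurjective_comp_apply ψ hsurj ⟨(Ideal.Quotient.mk N).comp φ, hker⟩ a
  have hx : ∀ t, Ideal.Quotient.mk N (g (X t)) = Ideal.Quotient.mk N (φ (b t)) := fun t => by
    rw [Ideal.Quotient.eq, show g (X t) - φ (b t) = g (X t - C (b t)) by simp [φ]]
    exact le_sup_left (a := N₀) (le_sup_right (α := Ideal B) (Ideal.subset_span ⟨t, rfl⟩))
  have hx' : ∀ t, Ideal.Quotient.mk I (g (X t)) = Ideal.Quotient.mk I (φ (b t)) := fun t => by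
    rw [Ideal.Quotient.eq, show g (X t) - φ (b t) = g (X t - C (b t)) by simp [φ]]
    exact hu t
  have hcomm : (σ.comp (Ideal.Quotient.mk I)).comp g = (Ideal.Quotient.mk N).comp g := by
    refine MvPolynomial.ringHom_ext (fun a => hσ a) fun t => ?_
    simp only [RingHom.comp_apply]
    rw [hx', hσ, hx]
  let f₁ : B →ₐ[MvPolynomial (Fin m) A] B ⧸ N := Ideal.Quotient.mkₐ _ N
  let f₂ : B →ₐ[MvPolynomial (Fin m) A] B ⧸ N :=
    { σ.comp (Ideal.Quotient.mk I) with commutes' := fun p => RingHom.congr_fun hcomm p }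
  let F : B ⧸ N →+* B ⧸ I := Ideal.Quotient.factor hle
  have hnil : IsNilpotent (RingHom.ker F) := by
    refine ⟨2, ?_⟩
    rw [show RingHom.ker F = I.map (Ideal.Quotient.mk N) from Ideal.Quotient.factor_ker hle, ← Ideal.map_pow,
      Submodule.zero_eq_bot, Ideal.map_eq_bot_iff_le_ker, Ideal.mk_ker, sq]
    exact le_sup_right
  have hF : ∀ y, F (σ y) = y := fun y => by
    obtain ⟨a, rfl⟩ := hsurj y
    show F (σ (Ideal.Quotient.mk I (φ a))) = _
    rw [hσ, Ideal.Quotient.factor_mk]
    rfl
  have hf := Algebra.FormallyUnramified.ext' F hnil f₁ f₂ fun x => by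
    show F (Ideal.Quotient.mk N x) = F (σ (Ideal.Quotient.mk I x))
    rw [hF, Ideal.Quotient.factor_mk]
  have hIN : I ≤ N₀ ⊔ I • I := fun x hx => by
    have h := AlgHom.congr_fun hf x
    change Ideal.Quotient.mk N x = σ (Ideal.Quotient.mk I x) at h
    rw [Ideal.Quotient.eq_zero_iff_mem.2 hx, map_zero, Ideal.Quotient.eq_zero_iff_mem] at h
    exact h
  obtain ⟨r, hr, hrI⟩ := Submodule.exists_sub_one_mem_and_smul_le_of_fg_of_le_sup hI le_rfl hIN
  exact ⟨r, hr, fun x hx => hrI (Submodule.smul_mem_pointwise_smul x r I hx)⟩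

theorem isKIdeal_of_seqF {k : RegImm.Kind} {R : Type u} [CommRing R] {n : ℕ} {f : Fin n → R} (hf : SeqF k f) :
    IsKIdeal k (Ideal.span (Set.range f)) := fun 𝔭 _ =>
  ⟨1, 𝔭.2.one_notMem, n, _, hf.map (RingHom.flat_algebraMap_iff.2
    (IsLocalization.flat (Localization.Away (1 : R)) (Submonoid.powers 1))), by
      rw [Ideal.map_span, ← Set.range_comp]; rfl⟩

theorem happ {κ : RegImm.Kind} (hκ : κ = .h1 ∨ κ = .quasi) {R S : Type u} [CommRing R] [CommRing S] (ψ : R →+* S)
    (hψ : Function.Surjective ψ) {s r : ℕ} (l : Fin s → R) (u : Fin r → R)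
    (hker : RingHom.ker ψ = Ideal.span (Set.range u)) (h : SeqF κ (Fin.append l u)) :
    SeqF κ fun t => ψ (l t) := by
  rcases hκ with rfl | rfl
  · exact RegCancelH2.h1_of_append hψ hker h
  · exact RegCancelH2.quasi_of_append hψ hker h

set_option maxHeartbeats 800000 in
/-- If `A → B` is standard smooth, `I` is an ideal of `B` generated by an `H₁`- (resp. quasi-) regular sequence
and `A ⧸ (I ∩ A) = B ⧸ I`, then `I ∩ A` is locally generated by such a sequence. -/
theorem isKIdeal_comap {κ : RegImm.Kind} (hκ : κ = .h1 ∨ κ = .quasi) {φ : A →+* B} (hφ : φ.IsStandardSmooth)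
    {n : ℕ} (k : Fin n → B) (hk : SeqF κ k)
    (hsurj : Function.Surjective ((Ideal.Quotient.mk (Ideal.span (Set.range k))).comp φ)) :
    IsKIdeal κ ((Ideal.span (Set.range k)).comap φ) := by
  classical
  obtain ⟨m, g, hgC, hge⟩ := hφ.exists_etale_mvPolynomial
  set I := Ideal.span (Set.range k) with hI
  intro q hq
  set J := I.comap φ with hJ
  let ψI := (Ideal.Quotient.mk I).comp φ
  have hkerψ : RingHom.ker ψI ≤ q.asIdeal := fun a ha => hq (show φ a ∈ I from Ideal.Quotient.eq_zero_iff_mem.1 ha)
  let P : Ideal B := (q.asIdeal.map ψI).comap (Ideal.Quotient.mk I)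
  haveI : (q.asIdeal.map ψI).IsPrime := Ideal.map_isPrime_of_surjective hsurj hkerψ
  haveI hP : P.IsPrime := Ideal.IsPrime.comap _
  have hIP : I ≤ P := fun x hx => by
    refine Ideal.mem_comap.2 ?_
    rw [Ideal.Quotient.eq_zero_iff_mem.2 hx]; exact zero_mem _
  have hPq : P.comap φ = q.asIdeal := by
    show (q.asIdeal.map ψI).comap ψI = q.asIdeal
    rw [Ideal.comap_map_of_surjective _ hsurj, ← RingHom.ker_eq_comap_bot, sup_eq_left.2 hkerψ]
  choose b hb using fun t : Fin m => hsurj (Ideal.Quotient.mk I (g (X t)))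
  let u : Fin m → B := fun t => g (X t - C (b t))
  have hu : ∀ t, u t ∈ I := fun t => by
    refine Ideal.Quotient.eq_zero_iff_mem.1 ?_
    show Ideal.Quotient.mk I (g (X t - C (b t))) = 0
    rw [map_sub, map_sub, ← RingHom.comp_apply g C, hgC, sub_eq_zero]
    exact (hb t).symm
  subst hgC
  obtain ⟨r₂, hr₂, hcut⟩ := exists_cut g hge b (Submodule.fg_span (Set.finite_range k)) hu hsurj
  obtain ⟨s, l, d, rfl, hd, -, hl⟩ := RegCancelH2.exists_complete (P := P) k u hu
    fun c hc => indep_coords g hge b hIP hu c hc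
  have hr₂P : r₂ ∉ P := fun h => hP.ne_top ((Ideal.eq_top_iff_one _).2 (by
    simpa using sub_mem h (hIP hr₂)))
  have hdP : d * r₂ ∉ P := fun h => (hP.mem_or_mem h).elim hd hr₂P
  -- localise
  let B' := Localization.Away (d * r₂)
  let ι : B →+* B' := algebraMap B B'
  haveI : IsLocalization.Away (d * r₂) B' := inferInstance
  have hιu : IsUnit (ι d * ι r₂) := by rw [← map_mul]; exact IsLocalization.Away.algebraMap_isUnit (d * r₂)
  let g' : MvPolynomial (Fin m) A →+* B' := ι.comp g
  have hgflat : g'.Flat := RingHom.Flat.comp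
    (by letI := g.toAlgebra; haveI : Algebra.Etale (MvPolynomial (Fin m) A) B := hge
        exact inferInstanceAs (Module.Flat (MvPolynomial (Fin m) A) B))
    (RingHom.flat_algebraMap_iff.2 (IsLocalization.flat B' (Submonoid.powers (d * r₂))))
  let U : Ideal B' := Ideal.span (Set.range fun t => g' (X t - C (b t)))
  let L := B' ⧸ U
  let φL : A →+* L := (Ideal.Quotient.mk U).comp (g'.comp C)
  have hLflat : φL.Flat := flat_quot_point g' hgflat b
  have hLfp : φL.FinitePresentation := by
    refine RingHom.FinitePresentation.comp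
      (RingHom.FinitePresentation.of_surjective _ Ideal.Quotient.mk_surjective ?_) ?_
    · rw [Ideal.mk_ker]; exact Submodule.fg_span (Set.finite_range _)
    · refine RingHom.FinitePresentation.comp (f := g.comp C) (g := ι) ?_ ?_
      · rw [RingHom.finitePresentation_algebraMap]; exact IsLocalization.Away.finitePresentation (d * r₂)
      · letI := (g.comp C).toAlgebra
        haveI : Algebra.IsStandardSmooth A B := hφ
        exact inferInstanceAs (Algebra.FinitePresentation A B)
  let κ' : B →+* L := (Ideal.Quotient.mk U).comp ι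
  have hU : RingHom.ker (Ideal.Quotient.mk U) = Ideal.span (Set.range fun t => ι (u t)) := Ideal.mk_ker
  have hseq : SeqF κ (Fin.append (fun t => ι (l t)) fun t => ι (u t)) := by
    have e : (Fin.append (fun t => ι (l t)) fun t => ι (u t)) = fun i => ι (Fin.append l u i) := by
      funext i
      induction i using Fin.addCases <;> simp
    rw [e]
    refine seqF_of_span_eq (hk.map (RingHom.flat_algebraMap_iff.2
      (IsLocalization.flat B' (Submonoid.powers (d * r₂))) : ι.Flat)) ?_
    rw [hl ι (isUnit_of_mul_isUnit_left hιu), Ideal.map_span, ← Set.range_comp]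
    rfl
  have hlk := happ hκ _ Ideal.Quotient.mk_surjective _ _ hU hseq
  have hIL : I.map κ' = Ideal.span (Set.range fun t => κ' (l t)) := by
    rw [← Ideal.map_map, ← hl ι (isUnit_of_mul_isUnit_left hιu), Ideal.map_span, ← Set.range_comp,
      show (Ideal.Quotient.mk U) ∘ (fun i => ι (Fin.append l u i)) =
        Fin.append (fun t => κ' (l t)) (fun t => κ' (u t)) by
        funext i
        induction i using Fin.addCases <;> simp [κ'] <;> rfl]
    exact RegCancelH2.range_append_span _ _ fun t =>
      Ideal.Quotient.eq_zero_iff_mem.2 (Ideal.subset_span ⟨t, rfl⟩)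
  have hJL : J.map φL = I.map κ' := by
    refine le_antisymm ?_ (Ideal.map_le_iff_le_comap.2 fun x hx => ?_)
    · rw [show φL = κ'.comp (g.comp C) from rfl, ← Ideal.map_map]
      exact Ideal.map_mono Ideal.map_comap_le
    · rw [Ideal.mem_comap]
      have h1 := Ideal.mem_map_of_mem κ' (hcut x hx)
      rw [map_mul, Ideal.map_sup, Ideal.map_map] at h1
      have h0 : (Ideal.span (Set.range fun t => g (X t - C (b t)))).map κ' = ⊥ := by
        rw [Ideal.map_span, Ideal.span_eq_bot]
        rintro _ ⟨_, ⟨t, rfl⟩, rfl⟩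
        exact Ideal.Quotient.eq_zero_iff_mem.2 (Ideal.subset_span ⟨t, rfl⟩)
      rw [h0, sup_bot_eq] at h1
      exact (Ideal.unit_mul_mem_iff_mem _
        ((isUnit_of_mul_isUnit_right hιu).map (Ideal.Quotient.mk U))).1 h1
  -- the image in Spec A
  letI : Algebra A L := φL.toAlgebra
  haveI : Module.Flat A L := hLflat
  haveI : Algebra.FinitePresentation A L := hLfp
  have hopen := (PrimeSpectrum.isOpenMap_comap_of_hasGoingDown_of_finitePresentation (R := A) (S := L)).isOpen_range
  have hqmem : q ∈ Set.range (PrimeSpectrum.comap (algebraMap A L)) := by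
    have hdisj : Disjoint (↑(Submonoid.powers (d * r₂)) : Set B) ↑P := by
      rw [Set.disjoint_left]
      rintro _ ⟨k, rfl⟩ h
      exact hdP (hP.mem_of_pow_mem k h)
    haveI hP' : (P.map ι).IsPrime := IsLocalization.isPrime_of_isPrime_disjoint _ B' P hP hdisj
    have hUP : U ≤ P.map ι := by
      refine Ideal.span_le.2 ?_
      rintro _ ⟨t, rfl⟩
      exact Ideal.mem_map_of_mem ι (hIP (hu t))
    have hker' : RingHom.ker (Ideal.Quotient.mk U) ≤ P.map ι := by rw [Ideal.mk_ker]; exact hUP
    refine ⟨⟨(P.map ι).map (Ideal.Quotient.mk U),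
      Ideal.map_isPrime_of_surjective Ideal.Quotient.mk_surjective hker'⟩, PrimeSpectrum.ext ?_⟩
    show ((P.map ι).map (Ideal.Quotient.mk U)).comap ((Ideal.Quotient.mk U).comp (ι.comp (g.comp C))) = q.asIdeal
    rw [← Ideal.comap_comap, Ideal.comap_map_of_surjective _ Ideal.Quotient.mk_surjective,
      ← RingHom.ker_eq_comap_bot, sup_eq_left.2 hker', ← Ideal.comap_comap,
      show (P.map ι).comap ι = P from IsLocalization.comap_map_of_isPrime_disjoint _ B' hP hdisj, hPq]
  obtain ⟨_, ⟨_, ⟨a, rfl⟩, rfl⟩, haq, hasub⟩ :=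
    PrimeSpectrum.isBasis_basic_opens.exists_subset_of_mem_open hqmem hopen
  have ha : a ∉ q.asIdeal := haq
  let Aa := Localization.Away a
  let La := Localization.Away (algebraMap A L a)
  letI : Algebra Aa La := (IsLocalization.Away.map Aa La (algebraMap A L) a).toAlgebra
  haveI : IsScalarTower A Aa La := IsScalarTower.of_algebraMap_eq fun x => by
    show algebraMap A La x = IsLocalization.Away.map Aa La (algebraMap A L) a (algebraMap A Aa x)
    rw [IsLocalization.Away.map, IsLocalization.map_eq]
    exact IsScalarTower.algebraMap_apply A L La x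
  haveI : Module.Flat A La :=
    haveI : Module.Flat L La := IsLocalization.flat La (Submonoid.powers (algebraMap A L a))
    Module.Flat.trans A L La
  haveI : Module.Flat Aa La :=
    (Module.flat_iff_of_isLocalization Aa (Submonoid.powers a) La).2 inferInstance
  haveI : Module.FaithfullyFlat Aa La := by
    refine Module.FaithfullyFlat.of_comap_surjective fun p => ?_
    obtain ⟨Q, hQ⟩ := hasub (show PrimeSpectrum.comap (algebraMap A Aa) p ∈
        (PrimeSpectrum.basicOpen a : Set (PrimeSpectrum A)) from fun h => p.2.ne_top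
      (Ideal.eq_top_of_isUnit_mem _ h (IsLocalization.Away.algebraMap_isUnit a)))
    have hQa : algebraMap A L a ∉ Q.asIdeal := fun h => p.2.ne_top (Ideal.eq_top_of_isUnit_mem _
      (x := algebraMap A Aa a) (by
        have := congrArg PrimeSpectrum.asIdeal hQ
        exact this.le (by exact h)) (IsLocalization.Away.algebraMap_isUnit a))
    obtain ⟨Q', hQ'⟩ : Q ∈ Set.range (PrimeSpectrum.comap (algebraMap L La)) := by
      rw [PrimeSpectrum.localization_away_comap_range La (algebraMap A L a)]
      exact hQa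
    refine ⟨Q', PrimeSpectrum.localization_comap_injective Aa (Submonoid.powers a) ?_⟩
    rw [← hQ, ← hQ', ← PrimeSpectrum.comap_comp_apply, ← PrimeSpectrum.comap_comp_apply,
      ← IsScalarTower.algebraMap_eq A Aa La, ← IsScalarTower.algebraMap_eq A L La]
  have hKI : IsKIdeal κ ((J.map (algebraMap A Aa)).map (algebraMap Aa La)) := by
    rw [Ideal.map_map, ← IsScalarTower.algebraMap_eq A Aa La, IsScalarTower.algebraMap_eq A L La,
      ← Ideal.map_map, show J.map (algebraMap A L) = _ from hJL.trans hIL, Ideal.map_span, ← Set.range_comp]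
    exact isKIdeal_of_seqF (hlk.map (φ := algebraMap L La) (RingHom.flat_algebraMap_iff.2
      (IsLocalization.flat La (Submonoid.powers (algebraMap A L a)))))
  have hdisja : Disjoint (↑(Submonoid.powers a) : Set A) ↑q.asIdeal := by
    rw [Set.disjoint_left]
    rintro _ ⟨k, rfl⟩ h
    exact ha (q.2.mem_of_pow_mem k h)
  let qa : PrimeSpectrum Aa :=
    ⟨q.asIdeal.map (algebraMap A Aa), IsLocalization.isPrime_of_isPrime_disjoint _ Aa _ q.2 hdisja⟩
  obtain ⟨h, hh, r, f, hf, hfI⟩ := isKIdeal_of_faithfullyFlat (A := Aa) (B := La) _ hKI qa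
    (Ideal.map_mono hq)
  obtain ⟨⟨h₀, _, e, rfl⟩, he⟩ := IsLocalization.surj (Submonoid.powers a) h
  have hae : IsUnit (algebraMap A Aa (a ^ e)) := by
    rw [map_pow]; exact (IsLocalization.Away.algebraMap_isUnit a).pow e
  have hassoc : Associated h (algebraMap A Aa h₀) := ⟨hae.unit, he⟩
  have hh₀ : h₀ ∉ q.asIdeal := fun hc => hh ((qa.2.mem_or_mem
    (show h * algebraMap A Aa (a ^ e) ∈ qa.asIdeal from he ▸ Ideal.mem_map_of_mem _ hc)).resolve_right
      fun h' => qa.2.ne_top (Ideal.eq_top_of_isUnit_mem _ h' hae))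
  haveI : IsLocalization.Away (algebraMap A Aa h₀) (Localization.Away h) :=
    IsLocalization.Away.of_associated hassoc
  haveI : IsLocalization.Away (a * h₀) (Localization.Away h) :=
    mul_comm h₀ a ▸ IsLocalization.Away.mul Aa (Localization.Away h) a h₀
  obtain ⟨f', hf', hfI'⟩ := KindScheme.exists_away_model (a * h₀) (Localization.Away h)
    (Localization.Away (a * h₀)) J f hf (by
      rw [IsScalarTower.algebraMap_eq A Aa (Localization.Away h), ← Ideal.map_map]
      exact hfI)
  exact ⟨a * h₀, fun hc => (q.2.mem_or_mem hc).elim ha hh₀, r, f', hf', hfI'⟩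

end Groth.Agent.SmoothDescendH2
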